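import Mathlib

/-!
# The counting argument for Jordan type theorems

An abstract form of Jordan's counting argument: a finite group in which centralisers of
non-central elements are nearly abelian has, under some bounds, an abelian normal subgroup
of bounded index.
-/

set_option autoImplicit false
set_option linter.style.haveILetI false
open scoped Pointwise

namespace Cfsg.Agent.Solv.BrauerFeit

universe u w

/-- Orbit sum divisibility. -/
theorem dvd_mul_sum {H : Type u} [Group H] [Finite H] {X : Type w} [Fintype X] [MulAction H X]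
    (D : ℕ) (f : X → ℕ) (hinv : ∀ (h : H) (x : X), f (h • x) = f x)
    (hdvd : ∀ x : X, Nat.card (MulAction.stabilizer H x) ∣ D * f x) :
    Nat.card H ∣ D * ∑ x : X, f x := by
  classical
  rw [Finset.mul_sum, ← (MulAction.selfEquivSigmaOrbits H X).symm.sum_comp, Fintype.sum_sigma]
  refine Finset.dvd_sum fun ω _ => ?_
  obtain ⟨x, hx⟩ := Quotient.exists_rep ω
  subst hx
  have hc : ∀ y : MulAction.orbit H (Quotient.out (Quotient.mk (MulAction.orbitRel H X) x)),
      f ((MulAction.selfEquivSigmaOrbits H X).symm ⟨_, y⟩) =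
        f (Quotient.out (Quotient.mk (MulAction.orbitRel H X) x)) := by
    rintro ⟨y, h, rfl⟩
    exact hinv h _
  rw [Finset.sum_congr rfl (fun y _ => by rw [hc y]), Finset.sum_const, Finset.card_univ, smul_eq_mul]
  set x₀ := Quotient.out (Quotient.mk (MulAction.orbitRel H X) x)
  have h1 : Fintype.card (MulAction.orbit H x₀) * Nat.card (MulAction.stabilizer H x₀) = Nat.card H := by
    rw [← Nat.card_eq_fintype_card, Nat.card_congr (MulAction.orbitEquivQuotientStabilizer H x₀),
      ← Subgroup.card_eq_card_quotient_mul_card_subgroup]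
  rw [← h1]
  exact Nat.mul_dvd_mul_left _ (hdvd x₀)

/-- A `p'`-subgroup, elementwise. -/
theorem not_dvd_card_of_orderOf {G : Type u} [Group G] [Finite G] {p : ℕ} [Fact p.Prime] {A : Subgroup G}
    (h : ∀ a ∈ A, ¬ p ∣ orderOf a) : ¬ p ∣ Nat.card A := fun hd => by
  obtain ⟨a, ha⟩ := exists_prime_orderOf_dvd_card' (G := A) p hd
  refine h a a.2 ?_
  rw [Subgroup.orderOf_coe, ha]

theorem orderOf_not_dvd {G : Type u} [Group G] [Finite G] {p : ℕ} {A : Subgroup G}
    (h : ¬ p ∣ Nat.card A) {a : G} (ha : a ∈ A) : ¬ p ∣ orderOf a := fun hd =>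
  h (hd.trans (by rw [← Subgroup.orderOf_mk (a := a) ha]; exact orderOf_dvd_natCard _))

variable {G : Type u} [Group G] [Finite G]

/-- Generating a commutative `p'`-subgroup by commuting `p'`-elements. -/
theorem closure_props {p : ℕ} [Fact p.Prime] {S : Set G} (hS : ∀ a ∈ S, ∀ b ∈ S, Commute a b)
    (hp : ∀ a ∈ S, ¬ p ∣ orderOf a) :
    (∀ a ∈ Subgroup.closure S, ∀ b ∈ Subgroup.closure S, Commute a b) ∧
      ¬ p ∣ Nat.card (Subgroup.closure S) := by
  have hcomm : ∀ a ∈ Subgroup.closure S, ∀ b ∈ Subgroup.closure S, Commute a b := by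
    intro a ha b hb
    have h1 : Subgroup.closure S ≤ Subgroup.centralizer S :=
      (Subgroup.closure_le _).2 fun x hx => Subgroup.mem_centralizer_iff.2 fun y hy => hS y hy x hx
    have h2 : Subgroup.closure S ≤ Subgroup.centralizer (Subgroup.closure S : Set G) := by
      rw [Subgroup.le_centralizer_iff]
      exact (Subgroup.closure_le _).2 fun x hx => Subgroup.mem_centralizer_iff.2 fun y hy =>
        (Subgroup.mem_centralizer_iff.1 (h1 hy) x hx).symm
    exact (Subgroup.mem_centralizer_iff.1 (h2 ha) b hb).symm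
  refine ⟨hcomm, not_dvd_card_of_orderOf fun a ha => ?_⟩
  have hsub : ∀ a ∈ Subgroup.closure S, a ∈ Subgroup.closure S ∧ ¬ p ∣ orderOf a := by
    intro a ha
    induction ha using Subgroup.closure_induction with
    | mem x hx => exact ⟨Subgroup.subset_closure hx, hp x hx⟩
    | one => exact ⟨one_mem _, by simpa using (Fact.out : p.Prime).not_dvd_one⟩
    | mul x y _ _ hx hy =>
      refine ⟨mul_mem hx.1 hy.1, fun hd => ?_⟩
      rcases (Fact.out : p.Prime).dvd_mul.1
        (hd.trans ((hcomm x hx.1 y hy.1).orderOf_mul_dvd_lcm.trans (Nat.lcm_dvd_mul _ _))) with h | h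
      · exact hx.2 h
      · exact hy.2 h
    | inv x _ hx => exact ⟨inv_mem hx.1, by simpa using hx.2⟩
  exact (hsub a ha).2

/-- A stable element: non-central, of order prime to `p`, with the same centraliser as its `e`-th power. -/
def IsStable (p e : ℕ) (s : G) : Prop :=
  s ∉ Subgroup.center G ∧ ¬ p ∣ orderOf s ∧ ∀ y : G, Commute (s ^ e) y → Commute s y

/-- The hypotheses of the counting argument. -/
structure Hyp (G : Type u) [Group G] (p J K F n : ℕ) : Prop where
  center : ¬ p ∣ Nat.card (Subgroup.center G)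
  abel : ∀ x : G, x ∉ Subgroup.center G → ∃ A : Subgroup G, A ≤ Subgroup.centralizer {x} ∧
    (∀ a ∈ A, ∀ b ∈ A, Commute a b) ∧ ¬ p ∣ Nat.card A ∧
    A.relIndex (Subgroup.centralizer {x}) ≤ J
  stab : ∀ A : Subgroup G, (∀ a ∈ A, ∀ b ∈ A, Commute a b) → ¬ p ∣ Nat.card A →
    (∀ a ∈ A, ¬ IsStable p J.factorial a) → Nat.card A ≤ K * Nat.card (Subgroup.center G)
  aut : ∀ T : Subgroup G, (∀ a ∈ T, ∀ b ∈ T, Commute a b) → ¬ p ∣ Nat.card T →
    (Subgroup.centralizer (T : Set G)).relIndex (Subgroup.normalizer (T : Set G)) ≤ F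
  proj : ∀ x : G, x ∉ Subgroup.center G →
    Nat.card {g : G // g * x * g⁻¹ * x⁻¹ ∈ Subgroup.center G} ≤
      n * Nat.card (Subgroup.centralizer ({x} : Set G))

/-- The thresholds. -/
def level (B D : ℕ) : ℕ → ℕ
  | 0 => B
  | k + 1 => B * (2 * (D * (level B D k).factorial) + 1)

/-- The bound. -/
def bound (J K F n : ℕ) : ℕ :=
  let B := (F * J).factorial
  let D := (n * J * K).factorial * B.factorial
  B + ∑ k ∈ Finset.range (2 * B + 2), D * (level B D k).factorial

variable {p J K F n : ℕ}

namespace Hyp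

/-- The normal abelian group containing the centre, with small index in the centraliser. -/
theorem abel' [Fact p.Prime] (h : Hyp G p J K F n) {x : G} (hx : x ∉ Subgroup.center G) :
    ∃ A : Subgroup G, A ≤ Subgroup.centralizer {x} ∧ Subgroup.center G ≤ A ∧
    (∀ a ∈ A, ∀ b ∈ A, Commute a b) ∧ ¬ p ∣ Nat.card A ∧
    A.relIndex (Subgroup.centralizer {x}) ≤ J ∧
    (∀ b ∈ Subgroup.centralizer ({x} : Set G), b ^ J.factorial ∈ A) := by
  obtain ⟨A, hle, hc, hp, hi⟩ := h.abel x hx
  have hprops := closure_props (p := p) (S := (A : Set G) ∪ (Subgroup.center G : Set G))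
    (by
      rintro a (ha | ha) b (hb | hb)
      · exact hc a ha b hb
      · exact (Subgroup.mem_center_iff.1 hb a)
      · exact (Subgroup.mem_center_iff.1 ha b).symm
      · exact (Subgroup.mem_center_iff.1 ha b).symm)
    (by
      rintro a (ha | ha)
      · exact orderOf_not_dvd hp ha
      · exact orderOf_not_dvd h.center ha)
  set A' := Subgroup.closure ((A : Set G) ∪ (Subgroup.center G : Set G))
  have hAA' : A ≤ A' := fun a ha => Subgroup.subset_closure (Or.inl ha)
  have hle' : A' ≤ Subgroup.centralizer {x} := (Subgroup.closure_le _).2 (by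
    rintro a (ha | ha)
    · exact hle ha
    · exact Subgroup.center_le_centralizer _ ha)
  have hi' : A'.relIndex (Subgroup.centralizer {x}) ≤ J :=
    (Nat.le_of_dvd (Nat.pos_of_ne_zero (Subgroup.index_ne_zero_of_finite))
      (Subgroup.relIndex_dvd_of_le_left _ hAA')).trans hi
  refine ⟨A', hle', fun a ha => Subgroup.subset_closure (Or.inr ha), hprops.1, hprops.2, hi', fun b hb => ?_⟩
  obtain ⟨k, hk0, hk, hmem⟩ := Subgroup.exists_pow_mem_of_index_ne_zero
    (H := A'.subgroupOf (Subgroup.centralizer {x})) Subgroup.index_ne_zero_of_finite ⟨b, hb⟩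
  obtain ⟨c, hc'⟩ := Nat.dvd_factorial hk0 (hk.trans hi')
  rw [hc', pow_mul]
  exact pow_mem (by simpa [Subgroup.mem_subgroupOf] using hmem) _

/-- Commuting is transitive on stable elements. -/
theorem trans [Fact p.Prime] (h : Hyp G p J K F n) {a b c x : G} (ha : IsStable p J.factorial a)
    (hc : IsStable p J.factorial c) (hx : x ∉ Subgroup.center G) (hax : Commute a x) (hcx : Commute c x)
    (_hb : b = x) : Commute a c := by
  obtain ⟨A, -, -, hA, -, -, hpow⟩ := h.abel' hx
  have h1 := hA _ (hpow a (Subgroup.mem_centralizer_singleton_iff.2 hax.eq))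
    _ (hpow c (Subgroup.mem_centralizer_singleton_iff.2 hcx.eq))
  exact (hc.2.2 a (ha.2.2 _ h1).symm).symm

theorem commute_of_common [Fact p.Prime] (h : Hyp G p J K F n) {a c x : G} (ha : IsStable p J.factorial a)
    (hc : IsStable p J.factorial c) (hx : x ∉ Subgroup.center G) (hax : Commute a x) (hcx : Commute c x) :
    Commute a c :=
  h.trans (b := x) ha hc hx hax hcx rfl

end Hyp

theorem isStable_conj {e : ℕ} {s : G} (hs : IsStable p e s) (g : G) : IsStable p e (g * s * g⁻¹) := by
  refine ⟨fun hz => hs.1 ?_, ?_, fun y hy => ?_⟩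
  · have : g⁻¹ * (g * s * g⁻¹) * g⁻¹⁻¹ ∈ Subgroup.center G :=
      Subgroup.Normal.conj_mem inferInstance _ hz g⁻¹
    simpa [mul_assoc] using this
  · rw [← MulAut.conj_apply, MulEquiv.orderOf_eq]
    exact hs.2.1
  · have h1 : Commute (s ^ e) (g⁻¹ * y * g) := by
      rw [← MulAut.conj_apply, ← map_pow, MulAut.conj_apply] at hy
      have := hy.map (MulAut.conj g⁻¹).toMonoidHom
      simpa [mul_assoc] using this
    have := (hs.2.2 _ h1).map (MulAut.conj g).toMonoidHom
    simpa [mul_assoc] using this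

/-- The generators of the subgroup of a class. -/
def clSet (p e : ℕ) (s : G) : Set G :=
  {t | IsStable p e t ∧ Commute t s} ∪ (Subgroup.center G : Set G)

/-- The subgroup attached to the class of a stable element. -/
def cl (p e : ℕ) (s : G) : Subgroup G := Subgroup.closure (clSet p e s)

theorem cl_props [Fact p.Prime] (h : Hyp G p J K F n) {s : G} (hs : IsStable p J.factorial s) :
    (∀ a ∈ cl p J.factorial s, ∀ b ∈ cl p J.factorial s, Commute a b) ∧
      ¬ p ∣ Nat.card (cl p J.factorial s) ∧ s ∈ cl p J.factorial s := by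
  obtain ⟨h1, h2⟩ := closure_props (p := p) (S := clSet p J.factorial s)
    (by
      rintro a (⟨ha, has⟩ | ha) b (⟨hb, hbs⟩ | hb)
      · exact h.commute_of_common ha hb hs.1 has hbs
      · exact (Subgroup.mem_center_iff.1 hb a)
      · exact (Subgroup.mem_center_iff.1 ha b).symm
      · exact (Subgroup.mem_center_iff.1 ha b).symm)
    (by
      rintro a (⟨ha, -⟩ | ha)
      · exact ha.2.1
      · exact orderOf_not_dvd h.center ha)
  exact ⟨h1, h2, Subgroup.subset_closure (Or.inl ⟨hs, Commute.refl s⟩)⟩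

theorem cl_eq_iff [Fact p.Prime] (h : Hyp G p J K F n) {s t : G} (hs : IsStable p J.factorial s)
    (ht : IsStable p J.factorial t) : cl p J.factorial s = cl p J.factorial t ↔ Commute s t := by
  constructor
  · intro e
    exact (cl_props h hs).1 s (cl_props h hs).2.2 t (e ▸ (cl_props h ht).2.2)
  · intro hst
    unfold cl clSet
    congr 2
    ext a
    exact ⟨fun ⟨ha, has⟩ => ⟨ha, h.commute_of_common ha ht hs.1 has hst.symm⟩,
      fun ⟨ha, hat⟩ => ⟨ha, h.commute_of_common ha hs ht.1 hat hst⟩⟩

theorem conj_smul_cl (e : ℕ) (s g : G) :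
    MulAut.conj g • cl p e s = cl p e (g * s * g⁻¹) := by
  have key : ∀ (s g a : G), a ∈ clSet p e s → g * a * g⁻¹ ∈ clSet p e (g * s * g⁻¹) := by
    rintro s g a (⟨ha, has⟩ | ha)
    · refine Or.inl ⟨isStable_conj ha g, ?_⟩
      simpa using has.map (MulAut.conj g).toMonoidHom
    · exact Or.inr (Subgroup.Normal.conj_mem inferInstance _ ha g)
  show (Subgroup.closure _).map (MulAut.conj g).toMonoidHom = Subgroup.closure _
  rw [MonoidHom.map_closure]
  congr 1
  ext a
  constructor
  · rintro ⟨b, hb, rfl⟩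
    exact key s g b hb
  · intro ha
    refine ⟨g⁻¹ * a * g, ?_, by simp [mul_assoc]⟩
    have := key _ g⁻¹ a ha
    simpa [mul_assoc] using this

theorem level_pos {B D : ℕ} (hB : 0 < B) : ∀ k, B ≤ level B D k
  | 0 => le_rfl
  | k + 1 => Nat.le_mul_of_pos_right B (by omega)

theorem level_mono {B D : ℕ} (hB : 0 < B) (hD : 0 < D) : Monotone (level B D) := by
  refine monotone_nat_of_le_succ fun k => ?_
  show level B D k ≤ B * (2 * (D * (level B D k).factorial) + 1)
  refine le_trans ?_ (Nat.le_mul_of_pos_left _ hB)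
  have h1 := Nat.self_le_factorial (level B D k)
  have h2 := Nat.le_mul_of_pos_left (level B D k).factorial hD
  omega

theorem conj_smul_eq_iff (T : Subgroup G) (g : G) :
    MulAut.conj g • T = T ↔ g ∈ Subgroup.normalizer (T : Set G) := by
  rw [Subgroup.mem_normalizer_iff]
  constructor
  · intro h x
    constructor
    · intro hx
      rw [← h]
      exact Subgroup.mem_pointwise_smul_iff_inv_smul_mem.2 (by simpa [mul_assoc] using hx)
    · intro hx
      rw [← h] at hx
      simpa [mul_assoc] using Subgroup.mem_pointwise_smul_iff_inv_smul_mem.1 hx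
  · intro h
    ext x
    rw [Subgroup.mem_pointwise_smul_iff_inv_smul_mem]
    simpa [mul_assoc] using h (g⁻¹ * x * g)

/-- The group attached to a class. -/
theorem classData [Fact p.Prime] (h : Hyp G p J K F n) {s : G} (hs : IsStable p J.factorial s) :
    ∃ A : Subgroup G, A ≤ Subgroup.centralizer (cl p J.factorial s : Set G) ∧
      A ≤ Subgroup.normalizer (cl p J.factorial s : Set G) ∧ Subgroup.center G ≤ A ∧
      (∀ a ∈ A, ∀ b ∈ A, Commute a b) ∧ ¬ p ∣ Nat.card A ∧
      (A.subgroupOf (Subgroup.normalizer (cl p J.factorial s : Set G))).Normal ∧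
      A.relIndex (Subgroup.normalizer (cl p J.factorial s : Set G)) ≤ (F * J).factorial := by
  obtain ⟨hcomm, hTp, hsT⟩ := cl_props h hs
  obtain ⟨A₁, -, hZA₁, hA₁, hA₁p, hA₁i, -⟩ := h.abel' hs.1
  set T := cl p J.factorial s
  set C := Subgroup.centralizer (T : Set G) with hC
  set N := Subgroup.normalizer (T : Set G) with hN
  have hCN : C ≤ N := Subgroup.centralizer_le_normalizer _
  have hCs : C ≤ Subgroup.centralizer {s} :=
    Subgroup.centralizer_le (Set.singleton_subset_iff.2 hsT)
  set A₀ := A₁ ⊓ C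
  have hA₀i : A₀.relIndex N ≤ J * F := by
    rw [← Subgroup.relIndex_mul_relIndex A₀ C N inf_le_right hCN]
    refine Nat.mul_le_mul ?_ (h.aut T hcomm hTp)
    rw [Subgroup.inf_relIndex_right]
    refine le_trans (Nat.le_of_dvd (Nat.pos_of_ne_zero Subgroup.index_ne_zero_of_finite) dvd_rfl) ?_
    exact le_trans (Subgroup.relIndex_le_of_le_right hCs Subgroup.index_ne_zero_of_finite) hA₁i
  set A := ((A₀.subgroupOf N).normalCore).map N.subtype
  have hAA₀ : A ≤ A₀ := by
    rintro _ ⟨x, hx, rfl⟩
    exact Subgroup.mem_subgroupOf.1 (Subgroup.normalCore_le _ hx)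
  have hAN : A ≤ N := Subgroup.map_subtype_le _
  have hAsub : A.subgroupOf N = (A₀.subgroupOf N).normalCore :=
    Subgroup.comap_map_eq_self_of_injective N.subtype_injective _
  refine ⟨A, hAA₀.trans inf_le_right, hAN, fun z hz => ?_,
    fun a ha b hb => hA₁ a (hAA₀ ha).1 b (hAA₀ hb).1, fun hd => hA₁p (hd.trans
      (Subgroup.card_dvd_of_le (hAA₀.trans inf_le_left))), ?_, ?_⟩
  · have hzC : z ∈ C := Subgroup.center_le_centralizer _ hz
    refine ⟨⟨z, hCN hzC⟩, fun b => ?_, rfl⟩
    rw [Subgroup.mem_subgroupOf]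
    have : ((b * ⟨z, hCN hzC⟩ * b⁻¹ : N) : G) = z := by
      simp [Subgroup.mem_center_iff.1 hz (b : G)]
    rw [this]
    exact ⟨hZA₁ hz, hzC⟩
  · rw [hAsub]
    infer_instance
  · rw [Subgroup.relIndex, hAsub, Subgroup.normalCore_eq_ker, Subgroup.index_ker]
    refine le_trans (Nat.le_of_dvd (Nat.card_pos) (Subgroup.card_subgroup_dvd_card _)) ?_
    rw [Nat.card_perm]
    exact Nat.factorial_le (le_trans hA₀i (le_of_eq (mul_comm _ _)))

theorem main [Fact p.Prime] (h : Hyp G p J K F n) :
    ∃ A : Subgroup G, A.Normal ∧ (∀ a ∈ A, ∀ b ∈ A, Commute a b) ∧ ¬ p ∣ Nat.card A ∧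
      A.index ≤ bound J K F n := by
  classical
  haveI := Fintype.ofFinite G
  haveI := Fintype.ofFinite (Subgroup G)
  set Z := Subgroup.center G with hZ
  set e := J.factorial with he
  set B := (F * J).factorial with hB
  set D := (n * J * K).factorial * B.factorial with hD
  set z := Nat.card Z with hz
  have hz0 : 0 < z := Nat.card_pos
  have hG0 : 0 < Nat.card G := Nat.card_pos
  have hBd : ∀ k ∈ Finset.range (2 * B + 2), B + D * (level B D k).factorial ≤ bound J K F n := by
    intro k hk
    show B + D * (level B D k).factorial ≤ B + ∑ k ∈ Finset.range (2 * B + 2), D * (level B D k).factorial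
    exact Nat.add_le_add_left (Finset.single_le_sum (f := fun k => D * (level B D k).factorial)
      (fun i _ => Nat.zero_le _) hk) B
  -- the classes
  let 𝒬 : Finset (Subgroup G) := {T | ∃ s, IsStable p e s ∧ cl p e s = T}
  have memQ : ∀ T, T ∈ 𝒬 ↔ ∃ s, IsStable p e s ∧ cl p e s = T := fun T => by simp [𝒬]
  have hQconj : ∀ (g : G), ∀ T ∈ 𝒬, MulAut.conj g • T ∈ 𝒬 := by
    intro g T hT
    obtain ⟨s, hs, rfl⟩ := (memQ T).1 hT
    exact (memQ _).2 ⟨_, isStable_conj hs g, (conj_smul_cl e s g).symm⟩
  let S : Subgroup G → Finset G := fun T =>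
    {x | x ∉ Z ∧ ∃ s, IsStable p e s ∧ cl p e s = T ∧ Commute x s}
  have memS : ∀ T x, x ∈ S T ↔ x ∉ Z ∧ ∃ s, IsStable p e s ∧ cl p e s = T ∧ Commute x s :=
    fun T x => by simp [S]
  let N : Subgroup G → Subgroup G := fun T => Subgroup.normalizer (T : Set G)
  let M : Finset G := {x | x ∉ Z ∧ ∀ s, IsStable p e s → ¬ Commute x s}
  have hSdisj : ∀ T ∈ 𝒬, ∀ T' ∈ 𝒬, T ≠ T' → Disjoint (S T) (S T') := by
    intro T _ T' _ hne
    rw [Finset.disjoint_left]
    intro x hx hx'
    obtain ⟨hxZ, s, hs, rfl, hxs⟩ := (memS _ _).1 hx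
    obtain ⟨-, t, ht, rfl, hxt⟩ := (memS _ _).1 hx'
    exact hne ((cl_eq_iff h hs ht).2 (h.commute_of_common hs ht hxZ hxs.symm hxt.symm))
  -- the partition of the group
  have hpart : Nat.card G = z + M.card + ∑ T ∈ 𝒬, (S T).card := by
    rw [← Finset.card_biUnion hSdisj]
    have e1 : z = (Finset.univ.filter fun x : G => x ∈ Z).card := by
      rw [hz, Nat.card_eq_fintype_card, ← Fintype.card_subtype]
    rw [Nat.card_eq_fintype_card, ← Finset.card_univ, e1, ← Finset.card_union_of_disjoint,
      ← Finset.card_union_of_disjoint]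
    · congr 1
      ext x
      simp only [Finset.mem_univ, Finset.mem_union, Finset.mem_filter, Finset.mem_biUnion, true_and, true_iff]
      by_cases hxZ : x ∈ Z
      · exact Or.inl (Or.inl hxZ)
      by_cases hex : ∃ s, IsStable p e s ∧ Commute x s
      · obtain ⟨s, hs, hxs⟩ := hex
        exact Or.inr ⟨cl p e s, (memQ _).2 ⟨s, hs, rfl⟩, (memS _ _).2 ⟨hxZ, s, hs, rfl, hxs⟩⟩
      · refine Or.inl (Or.inr ?_)
        simp only [M, Finset.mem_filter, Finset.mem_univ, true_and]
        exact ⟨hxZ, fun s hs hxs => hex ⟨s, hs, hxs⟩⟩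
    · rw [Finset.disjoint_left]
      intro x hx hx'
      simp only [Finset.mem_union, Finset.mem_filter, Finset.mem_univ, true_and, M] at hx
      obtain ⟨T, -, hxT⟩ := Finset.mem_biUnion.1 hx'
      obtain ⟨hxZ, s, hs, -, hxs⟩ := (memS _ _).1 hxT
      rcases hx with hx | ⟨-, hx⟩
      · exact hxZ hx
      · exact hx s hs hxs
    · rw [Finset.disjoint_left]
      intro x hx hx'
      simp only [Finset.mem_filter, Finset.mem_univ, true_and, M] at hx hx'
      exact hx'.1 hx
  -- a bound for the small elements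
  have hM : Nat.card G ∣ (n * J * K).factorial * M.card := by
    let π := QuotientGroup.mk' Z
    let Mb : Finset (G ⧸ Z) := M.image π
    have hsat : ∀ (x : G), ∀ c ∈ Z, x ∈ M → x * c ∈ M := by
      intro x c hc hx
      simp only [M, Finset.mem_filter, Finset.mem_univ, true_and] at hx ⊢
      refine ⟨fun hxc => hx.1 (by simpa using mul_mem hxc (inv_mem hc)), fun s hs hxs => hx.2 s hs ?_⟩
      have hcs : Commute c⁻¹ s := ((Subgroup.mem_center_iff.1 (inv_mem hc)) s).symm
      simpa using hxs.mul_left hcs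
    have hpre : ∀ x, x ∈ M ↔ π x ∈ Mb := by
      intro x
      refine ⟨fun hx => Finset.mem_image_of_mem _ hx, fun hx => ?_⟩
      obtain ⟨y, hy, hyx⟩ := Finset.mem_image.1 hx
      have := QuotientGroup.eq.1 hyx
      simpa using hsat y _ this hy
    have hcard : M.card = z * Mb.card := by
      have e2 := Nat.card_congr (QuotientGroup.preimageMkEquivSubgroupProdSet Z (Mb : Set (G ⧸ Z)))
      rw [Nat.card_prod] at e2
      have e3 : Nat.card (QuotientGroup.mk ⁻¹' (Mb : Set (G ⧸ Z)) : Set G) = M.card := by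
        rw [show (QuotientGroup.mk ⁻¹' (Mb : Set (G ⧸ Z)) : Set G) = (M : Set G) from
          Set.ext fun x => (hpre x).symm]
        simp
      rw [e3] at e2
      simpa [hz] using e2
    have hMconj : ∀ g x : G, x ∈ M → g * x * g⁻¹ ∈ M := by
      intro g x hx
      simp only [M, Finset.mem_filter, Finset.mem_univ, true_and] at hx ⊢
      refine ⟨fun hz' => hx.1 (by simpa [mul_assoc] using Subgroup.Normal.conj_mem inferInstance _ hz' g⁻¹),
        fun s hs hxs => hx.2 (g⁻¹ * s * g) (by simpa using isStable_conj hs g⁻¹) ?_⟩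
      simpa [mul_assoc] using hxs.map (MulAut.conj g⁻¹).toMonoidHom
    let act : MulAction G Mb :=
      { smul := fun g q => ⟨π g * q.1 * (π g)⁻¹, by
          obtain ⟨x, hx⟩ := QuotientGroup.mk'_surjective Z q.1
          rw [← hx, ← map_mul, ← map_inv, ← map_mul, ← hpre]
          exact hMconj g x ((hpre x).2 (hx ▸ q.2))⟩
        one_smul := fun q => Subtype.ext (by show π 1 * q.1 * (π 1)⁻¹ = q.1; simp)
        mul_smul := fun a b q => Subtype.ext (by
          show π (a * b) * q.1 * (π (a * b))⁻¹ = π a * (π b * q.1 * (π b)⁻¹) * (π a)⁻¹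
          simp [mul_assoc]) }
    have key := @dvd_mul_sum G _ _ Mb _ act ((n * J * K).factorial * z) (fun _ => 1) (fun _ _ => rfl) ?_
    · rw [hcard]
      simpa [mul_assoc] using key
    intro q
    obtain ⟨x, hx⟩ := QuotientGroup.mk'_surjective Z q.1
    have hxM : x ∈ M := (hpre x).2 (hx ▸ q.2)
    simp only [M, Finset.mem_filter, Finset.mem_univ, true_and] at hxM
    set St := @MulAction.stabilizer G Mb _ act q
    have hmem : ∀ g, g ∈ St ↔ g * x * g⁻¹ * x⁻¹ ∈ Z := by
      intro g
      rw [MulAction.mem_stabilizer_iff]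
      constructor
      · intro hg
        have := congrArg Subtype.val hg
        change π g * q.1 * (π g)⁻¹ = q.1 at this
        rw [← hx] at this
        rw [← QuotientGroup.eq_one_iff]
        show π (g * x * g⁻¹ * x⁻¹) = 1
        rw [map_mul, map_mul, map_mul, map_inv, map_inv, this, mul_inv_cancel]
      · intro hg
        apply Subtype.ext
        show π g * q.1 * (π g)⁻¹ = q.1
        rw [← hx, ← mul_inv_eq_one, ← map_mul, ← map_inv, ← map_mul, ← map_inv, ← map_mul]
        exact (QuotientGroup.eq_one_iff _).2 hg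
    have hZle : Z ≤ St := by
      intro c hc
      rw [hmem, Subgroup.mem_center_iff.1 hc x |>.symm]
      simpa using one_mem Z
    obtain ⟨c, hc⟩ : z ∣ Nat.card St := Subgroup.card_dvd_of_le hZle
    obtain ⟨A, hAle, -, hA, hAp, hAi, -⟩ := h.abel' hxM.1
    have hAz : Nat.card A ≤ K * z := h.stab A hA hAp fun a ha hs =>
      hxM.2 a hs (Subgroup.mem_centralizer_singleton_iff.1 (hAle ha)).symm
    have hC : Nat.card (Subgroup.centralizer ({x} : Set G)) ≤ J * (K * z) := by
      rw [← Subgroup.card_mul_index (A.subgroupOf (Subgroup.centralizer {x})),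
        Nat.card_congr (Subgroup.subgroupOfEquivOfLe hAle).toEquiv, mul_comm]
      exact Nat.mul_le_mul hAi hAz
    have h2 : Nat.card St ≤ n * (J * (K * z)) := by
      refine le_trans (le_of_eq (Nat.card_congr (Equiv.subtypeEquivRight hmem))) ?_
      exact (h.proj x hxM.1).trans (Nat.mul_le_mul_left _ hC)
    have hcle : c ≤ n * J * K := by
      rw [hc] at h2
      exact Nat.le_of_mul_le_mul_left (h2.trans_eq (by ring)) hz0
    have hc0 : 0 < c := Nat.pos_of_ne_zero fun h0 => by
      rw [h0, mul_zero] at hc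
      exact Nat.card_pos.ne' hc
    rw [hc, mul_one, mul_comm (n * J * K).factorial z]
    exact Nat.mul_dvd_mul_left _ (Nat.dvd_factorial hc0 hcle)
  choose! sd hsd using fun T hT => (memQ T).1 hT
  -- data of the classes
  have hdata : ∀ T ∈ 𝒬, ∃ A : Subgroup G, A ≤ N T ∧ Z ≤ A ∧ (∀ a ∈ A, ∀ b ∈ A, Commute a b) ∧
      ¬ p ∣ Nat.card A ∧ (A.subgroupOf (N T)).Normal ∧ A.relIndex (N T) ≤ B ∧
      Nat.card A ≤ (S T).card + z ∧ Nat.card A ∣ (S T).card + z := by
    intro T hT
    obtain ⟨s, hs, rfl⟩ := (memQ T).1 hT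
    obtain ⟨A, hAC, hAN, hZA, hA, hAp, hAn, hAi⟩ := classData h hs
    have hAS : ∀ a ∈ A, a ∉ Z → a ∈ S (cl p e s) := fun a ha haZ => (memS _ _).2 ⟨haZ, s, hs, rfl,
      (Subgroup.mem_centralizer_iff.1 (hAC ha) s (cl_props h hs).2.2).symm⟩
    let U : Finset G := S (cl p e s) ∪ Finset.univ.filter (fun x => x ∈ Z)
    have hUc : U.card = (S (cl p e s)).card + z := by
      have e1 : z = (Finset.univ.filter fun x : G => x ∈ Z).card := by
        rw [hz, Nat.card_eq_fintype_card, ← Fintype.card_subtype]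
      rw [Finset.card_union_of_disjoint, e1]
      rw [Finset.disjoint_left]
      intro x hx hx'
      exact ((memS _ _).1 hx).1 (Finset.mem_filter.1 hx').2
    have hAU : ∀ a ∈ A, a ∈ U := by
      intro a ha
      by_cases haZ : a ∈ Z
      · exact Finset.mem_union_right _ (Finset.mem_filter.2 ⟨Finset.mem_univ _, haZ⟩)
      · exact Finset.mem_union_left _ (hAS a ha haZ)
    have hsat : ∀ x ∈ U, ∀ a ∈ A, x * a ∈ U := by
      intro x hx a ha
      rcases Finset.mem_union.1 hx with hx | hx
      · obtain ⟨-, t, ht, hTt, hxt⟩ := (memS _ _).1 hx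
        by_cases hxa : x * a ∈ Z
        · exact Finset.mem_union_right _ (Finset.mem_filter.2 ⟨Finset.mem_univ _, hxa⟩)
        refine Finset.mem_union_left _ ((memS _ _).2 ⟨hxa, t, ht, hTt, hxt.mul_left ?_⟩)
        exact (Subgroup.mem_centralizer_iff.1 (hAC ha) t (hTt ▸ (cl_props h ht).2.2)).symm
      · exact hAU _ (mul_mem (hZA (Finset.mem_filter.1 hx).2) ha)
    have hdvd : Nat.card A ∣ U.card := by
      have e2 := Nat.card_congr (QuotientGroup.preimageMkEquivSubgroupProdSet A
        ((QuotientGroup.mk : G → G ⧸ A) '' (U : Set G)))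
      have hpre : (QuotientGroup.mk ⁻¹' ((QuotientGroup.mk : G → G ⧸ A) '' (U : Set G)) : Set G) = U := by
        refine Set.Subset.antisymm ?_ (Set.subset_preimage_image _ _)
        rintro x ⟨y, hy, hyx⟩
        simpa using hsat y hy _ (QuotientGroup.eq.1 hyx)
      rw [hpre, Nat.card_prod] at e2
      refine ⟨_, Eq.trans ?_ e2⟩
      simp
    refine ⟨A, hAN, hZA, hA, hAp, hAn, hAi, ?_, hUc ▸ hdvd⟩
    rw [← hUc]
    exact Nat.le_of_dvd (Finset.card_pos.2 ⟨1, hAU 1 (one_mem A)⟩) hdvd
  choose! AT hAN hZA hAcomm hAp hAn hAi hASle hASdvd using hdata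
  have hNA : ∀ T ∈ 𝒬, Nat.card (AT T) * (AT T).relIndex (N T) = Nat.card (N T) := by
    intro T hT
    conv_rhs => rw [← Subgroup.card_mul_index ((AT T).subgroupOf (N T))]
    rw [Nat.card_congr (Subgroup.subgroupOfEquivOfLe (hAN T hT)).toEquiv]
    rfl
  have hSconj : ∀ (g : G), ∀ T ∈ 𝒬, (S (MulAut.conj g • T)).card = (S T).card := by
    intro g T _
    symm
    refine Finset.card_equiv (MulAut.conj g).toEquiv fun x => ?_
    rw [memS, memS, show (MulAut.conj g).toEquiv x = g * x * g⁻¹ from rfl]
    constructor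
    · rintro ⟨hxZ, s, hs, rfl, hxs⟩
      refine ⟨fun h' => hxZ (by simpa [mul_assoc] using Subgroup.Normal.conj_mem inferInstance _ h' g⁻¹),
        g * s * g⁻¹, isStable_conj hs g, (conj_smul_cl e s g).symm, ?_⟩
      simpa using hxs.map (MulAut.conj g).toMonoidHom
    · rintro ⟨hxZ, s, hs, hsT, hxs⟩
      refine ⟨fun h' => hxZ (Subgroup.Normal.conj_mem inferInstance _ h' g),
        g⁻¹ * s * g, by simpa using isStable_conj hs g⁻¹, ?_, ?_⟩
      · have := congrArg (MulAut.conj g⁻¹ • ·) hsT
        simp only [conj_smul_cl, smul_smul, ← map_mul, inv_mul_cancel, map_one, one_smul] at this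
        simpa using this
      · simpa [mul_assoc] using hxs.map (MulAut.conj g⁻¹).toMonoidHom
  -- invariant families of classes
  have orbit : ∀ (Y : Finset (Subgroup G)) (hY : Y ⊆ 𝒬),
      (∀ (g : G), ∀ T ∈ Y, MulAut.conj g • T ∈ Y) → ∀ (E : ℕ) (f : Subgroup G → ℕ),
      (∀ (g : G), ∀ T ∈ Y, f (MulAut.conj g • T) = f T) → (∀ T ∈ Y, Nat.card (N T) ∣ E * f T) →
      Nat.card G ∣ E * ∑ T ∈ Y, f T := by
    intro Y hY hinv E f hf hdvd
    let act : MulAction G Y :=
      { smul := fun g T => ⟨MulAut.conj g • T.1, hinv g T.1 T.2⟩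
        one_smul := fun T => Subtype.ext (by show MulAut.conj 1 • T.1 = T.1; simp)
        mul_smul := fun a b T => Subtype.ext (by
          show MulAut.conj (a * b) • T.1 = MulAut.conj a • MulAut.conj b • T.1
          rw [map_mul, mul_smul]) }
    have key := @dvd_mul_sum G _ _ Y _ act E (fun T => f T.1) (fun g T => hf g T.1 T.2) fun T => by
      refine dvd_trans (dvd_of_eq ?_) (hdvd T.1 T.2)
      refine Nat.card_congr (Equiv.subtypeEquivRight fun g => ?_)
      rw [MulAction.mem_stabilizer_iff, ← conj_smul_eq_iff]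
      exact Subtype.ext_iff
    rwa [Finset.sum_coe_sort Y f] at key
  have hmain : Nat.card G ∣ D * (M.card + ∑ T ∈ 𝒬, ((S T).card + z)) := by
    rw [mul_add, hD]
    refine dvd_add (hM.trans (Dvd.intro B.factorial (by ring))) ?_
    rw [mul_assoc]
    refine Dvd.dvd.mul_left (orbit 𝒬 subset_rfl hQconj _ _ (fun g T hT => by rw [hSconj g T hT]) ?_) _
    intro T hT
    rw [← hNA T hT, mul_comm B.factorial]
    refine Nat.mul_dvd_mul (hASdvd T hT) (Nat.dvd_factorial ?_ (hAi T hT))
    exact Nat.pos_of_ne_zero Subgroup.index_ne_zero_of_finite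
  have hBpos : 0 < B := Nat.factorial_pos _
  have hDpos : 0 < D := Nat.mul_pos (Nat.factorial_pos _) (Nat.factorial_pos _)
  let Lg : ℕ → Finset (Subgroup G) := fun L => 𝒬.filter fun T => L * z < Nat.card (N T)
  have hNcard : ∀ (g : G) (T : Subgroup G), Nat.card (N (MulAut.conj g • T)) = Nat.card (N T) := by
    intro g T
    refine Nat.card_congr (Equiv.subtypeEquiv (MulAut.conj g⁻¹).toEquiv fun x => ?_)
    rw [show (MulAut.conj g⁻¹).toEquiv x = g⁻¹ * x * g⁻¹⁻¹ from rfl, inv_inv]
    simp only [N]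
    rw [← conj_smul_eq_iff, ← conj_smul_eq_iff, map_mul, map_mul, mul_smul, mul_smul, map_inv,
      inv_smul_eq_iff]
  have hLginv : ∀ L (g : G), ∀ T ∈ Lg L, MulAut.conj g • T ∈ Lg L := by
    intro L g T hT
    obtain ⟨hT, hlt⟩ := Finset.mem_filter.1 hT
    exact Finset.mem_filter.2 ⟨hQconj g T hT, by rwa [hNcard]⟩
  -- the divisibility for the large classes
  have hdiv : ∀ L, Nat.card G ∣ D * L.factorial * (z * ((Lg L).card - 1)) ∧
      ((Lg L).card = 0 → Nat.card G ≤ D * L.factorial * z) := by
    intro L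
    set small := 𝒬.filter fun T => ¬ L * z < Nat.card (N T) with hsmall
    have hsm : Nat.card G ∣ L.factorial * z * small.card := by
      have := orbit small (Finset.filter_subset _ _) (fun g T hT => by
        obtain ⟨hT, hlt⟩ := Finset.mem_filter.1 hT
        exact Finset.mem_filter.2 ⟨hQconj g T hT, by rwa [hNcard]⟩) (L.factorial * z) (fun _ => 1)
        (fun _ _ _ => rfl) ?_
      · simpa using this
      intro T hT
      obtain ⟨hT, hle⟩ := Finset.mem_filter.1 hT
      obtain ⟨i, hi⟩ : z ∣ Nat.card (N T) := Subgroup.card_dvd_of_le ((hZA T hT).trans (hAN T hT))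
      rw [hi, mul_one, mul_comm L.factorial]
      refine Nat.mul_dvd_mul_left z (Nat.dvd_factorial (Nat.pos_of_ne_zero fun h0 => ?_) ?_)
      · rw [h0, mul_zero] at hi
        exact Nat.card_pos.ne' hi
      · rw [hi, mul_comm L z] at hle
        exact Nat.le_of_mul_le_mul_left (not_lt.1 hle) hz0
    have hq : 𝒬.card = (Lg L).card + small.card := (Finset.card_filter_add_card_filter_not _).symm
    have hX : M.card + ∑ T ∈ 𝒬, ((S T).card + z) + z =
        Nat.card G + small.card * z + (Lg L).card * z := by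
      rw [hpart, Finset.sum_add_distrib, Finset.sum_const, hq, smul_eq_mul]
      ring
    obtain ⟨a, ha⟩ := hmain
    obtain ⟨b, hb⟩ := hsm
    set ℓ := (Lg L).card
    have hm' : Nat.card G ∣ D * L.factorial * (M.card + ∑ T ∈ 𝒬, ((S T).card + z)) := by
      rw [mul_comm D L.factorial, mul_assoc, ha]
      exact Dvd.dvd.mul_left (dvd_mul_right _ _) _
    have hs' : Nat.card G ∣ D * L.factorial * Nat.card G + D * (L.factorial * z * small.card) :=
      dvd_add (dvd_mul_left _ _) (by rw [hb]; exact Dvd.dvd.mul_left (dvd_mul_right _ _) _)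
    rcases Nat.eq_zero_or_pos ℓ with h0 | h0
    · refine ⟨by rw [h0]; simp, fun _ => ?_⟩
      have h1 : D * L.factorial * (M.card + ∑ T ∈ 𝒬, ((S T).card + z)) + D * L.factorial * z =
          D * L.factorial * Nat.card G + D * (L.factorial * z * small.card) := by
        rw [← mul_add, hX, h0]
        ring
      rw [← h1] at hs'
      exact Nat.le_of_dvd (Nat.mul_pos (Nat.mul_pos hDpos (Nat.factorial_pos _)) hz0)
        ((Nat.dvd_add_right hm').1 hs')
    · obtain ⟨k, hk⟩ := Nat.exists_eq_succ_of_ne_zero h0.ne'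
      refine ⟨?_, fun h' => absurd h' h0.ne'⟩
      rw [hk, Nat.succ_sub_one]
      have h1 : D * L.factorial * (M.card + ∑ T ∈ 𝒬, ((S T).card + z)) =
          D * L.factorial * Nat.card G + D * (L.factorial * z * small.card) + D * L.factorial * (z * k) := by
        have hX' : M.card + ∑ T ∈ 𝒬, ((S T).card + z) = Nat.card G + small.card * z + k * z := by
          rw [hk, Nat.succ_mul] at hX
          omega
        rw [hX']
        ring
      rw [h1] at hm'
      exact (Nat.dvd_add_right hs').1 hm'
  have hSsum : ∀ Y : Finset (Subgroup G), Y ⊆ 𝒬 → ∑ T ∈ Y, (S T).card ≤ Nat.card G := fun Y hY =>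
    le_trans (Finset.sum_le_sum_of_subset hY) (hpart ▸ Nat.le_add_left _ _)
  by_cases hgood : ∃ k ∈ Finset.range (2 * B + 2), (Lg (level B D k)).card ≤ 1
  · obtain ⟨k, hk, hle⟩ := hgood
    rcases Nat.lt_or_ge (Lg (level B D k)).card 1 with h0 | h1
    · refine ⟨Z, inferInstance, fun a _ b hb => Subgroup.mem_center_iff.1 hb a, h.center, ?_⟩
      have := (hdiv (level B D k)).2 (by omega)
      rw [← Subgroup.index_mul_card Z] at this
      exact le_trans (le_trans (Nat.le_of_mul_le_mul_right this hz0) (Nat.le_add_left _ B)) (hBd k hk)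
    · obtain ⟨T, hT⟩ := Finset.card_eq_one.1 (le_antisymm hle h1)
      have hTmem : T ∈ Lg (level B D k) := hT ▸ Finset.mem_singleton_self T
      have hTQ : T ∈ 𝒬 := (Finset.mem_filter.1 hTmem).1
      have hNtop : N T = ⊤ := by
        rw [eq_top_iff]
        intro g _
        have := hLginv _ g T hTmem
        rw [hT, Finset.mem_singleton] at this
        exact (conj_smul_eq_iff T g).1 this
      refine ⟨AT T, ?_, hAcomm T hTQ, hAp T hTQ, ?_⟩
      · have hn := hAn T hTQ
        rw [hNtop] at hn
        exact ⟨fun a ha g => by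
          simpa [Subgroup.mem_subgroupOf] using hn.conj_mem ⟨a, Subgroup.mem_top a⟩
            (by simpa [Subgroup.mem_subgroupOf] using ha) ⟨g, Subgroup.mem_top g⟩⟩
      · have := hAi T hTQ
        rw [hNtop, Subgroup.relIndex_top_right] at this
        exact le_trans (le_trans this (Nat.le_add_right _ _)) (hBd k hk)
  · -- every level contributes a definite proportion of the group
    exfalso
    push Not at hgood
    let W : ℕ → Finset (Subgroup G) := fun k => Lg (level B D k) \ Lg (level B D (k + 1))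
    have hW : ∀ k ∈ Finset.range (2 * B + 1), Nat.card G ≤ 2 * B * ∑ T ∈ W k, (S T).card := by
      intro k hk
      have h2 := hgood k (Finset.mem_range.2 (by have := Finset.mem_range.1 hk; omega))
      set L := level B D k with hL
      set E := D * L.factorial with hE
      have hEpos : 0 < E := Nat.mul_pos hDpos (Nat.factorial_pos _)
      have hG : Nat.card G ≤ E * (z * ((Lg L).card - 1)) := Nat.le_of_dvd
        (Nat.mul_pos hEpos (Nat.mul_pos hz0 (by omega))) (hdiv L).1
      obtain ⟨T, hT⟩ : (W k).Nonempty := by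
        by_contra hne
        rw [Finset.not_nonempty_iff_eq_empty, Finset.sdiff_eq_empty_iff_subset] at hne
        have hlow : ∀ T ∈ Lg L, 2 * E * z ≤ (S T).card := by
          intro T hT
          obtain ⟨hTQ, hlt⟩ := Finset.mem_filter.1 (hne hT)
          have h3 : B * ((2 * E + 1) * z) < B * Nat.card (AT T) := by
            refine lt_of_lt_of_le ?_ (le_trans (hNA T hTQ).ge (by
              rw [mul_comm]; exact Nat.mul_le_mul_right _ (hAi T hTQ)))
            refine lt_of_eq_of_lt ?_ hlt
            show B * ((2 * E + 1) * z) = B * (2 * (D * L.factorial) + 1) * z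
            rw [mul_assoc]
          have h4 := Nat.lt_of_mul_lt_mul_left h3
          have := hASle T hTQ
          rw [add_mul, one_mul] at h4
          omega
        have h5 := Finset.card_nsmul_le_sum _ _ _ hlow
        have h6 := le_trans h5 ((hSsum _ (Finset.filter_subset _ _)).trans hG)
        rw [smul_eq_mul] at h6
        obtain ⟨m, hm⟩ := Nat.exists_eq_succ_of_ne_zero (show (Lg L).card ≠ 0 by omega)
        rw [hm, Nat.succ_sub_one] at h6
        have h7 : m.succ * (2 * E * z) = (2 * m + 2) * (E * z) := by rw [Nat.succ_eq_add_one]; ring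
        have h8 : E * (z * m) = m * (E * z) := by ring
        rw [h7, h8] at h6
        have := Nat.le_of_mul_le_mul_right h6 (Nat.mul_pos hEpos hz0)
        omega
      obtain ⟨hTQ, hTlt⟩ := Finset.mem_filter.1 (Finset.mem_sdiff.1 hT).1
      -- the orbit of this class
      let O : Finset (Subgroup G) := Finset.univ.image fun g : G => MulAut.conj g • T
      have hO : ∀ T' ∈ O, T' ∈ W k ∧ (S T').card = (S T).card := by
        intro T' hT'
        obtain ⟨g, -, rfl⟩ := Finset.mem_image.1 hT'
        refine ⟨Finset.mem_sdiff.2 ⟨hLginv _ g T (Finset.mem_sdiff.1 hT).1, fun h' => ?_⟩, hSconj g T hTQ⟩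
        refine (Finset.mem_sdiff.1 hT).2 ?_
        have := hLginv _ g⁻¹ _ h'
        simpa [smul_smul, ← map_mul] using this
      have hOc : Nat.card G ∣ Nat.card (N T) * O.card := by
        have := orbit O (fun T' hT' => (Finset.mem_filter.1 (Finset.mem_sdiff.1 (hO T' hT').1).1).1)
          (fun g T' hT' => by
            obtain ⟨g', -, rfl⟩ := Finset.mem_image.1 hT'
            exact Finset.mem_image.2 ⟨g * g', Finset.mem_univ _, by rw [map_mul, mul_smul]⟩)
          (Nat.card (N T)) (fun _ => 1) (fun _ _ _ => rfl) fun T' hT' => by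
            obtain ⟨g', -, rfl⟩ := Finset.mem_image.1 hT'
            rw [hNcard, mul_one]
        simpa using this
      have hS2 : Nat.card (N T) ≤ 2 * B * (S T).card := by
        have h3 : Nat.card (N T) ≤ B * Nat.card (AT T) := by
          rw [← hNA T hTQ, mul_comm]
          exact Nat.mul_le_mul_right _ (hAi T hTQ)
        obtain ⟨a, ha⟩ : z ∣ Nat.card (AT T) := Subgroup.card_dvd_of_le (hZA T hTQ)
        have h4 : B * z < B * Nat.card (AT T) :=
          lt_of_le_of_lt (Nat.mul_le_mul_right _ (level_pos hBpos k)) (lt_of_lt_of_le hTlt h3)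
        have h5 : 2 * z ≤ Nat.card (AT T) := by
          have h6 := Nat.lt_of_mul_lt_mul_left h4
          rw [ha] at h6 ⊢
          have h7 : 1 < a := by
            by_contra h8
            have := Nat.mul_le_mul_left z (not_lt.1 h8)
            omega
          rw [mul_comm 2]
          exact Nat.mul_le_mul_left z h7
        have := hASle T hTQ
        refine h3.trans ?_
        rw [mul_comm 2 B, mul_assoc]
        exact Nat.mul_le_mul_left B (by omega)
      refine le_trans (Nat.le_of_dvd (Nat.mul_pos Nat.card_pos (Finset.card_pos.2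
        ⟨T, Finset.mem_image.2 ⟨1, Finset.mem_univ _, by simp⟩⟩)) hOc) ?_
      refine le_trans (Nat.mul_le_mul_right _ hS2) ?_
      rw [mul_assoc]
      refine Nat.mul_le_mul_left _ ?_
      rw [mul_comm, ← smul_eq_mul, ← Finset.sum_const, ← Finset.sum_congr rfl fun T' hT' => (hO T' hT').2]
      exact Finset.sum_le_sum_of_subset fun T' hT' => (hO T' hT').1
    have hWdisj : ∀ i ∈ Finset.range (2 * B + 1), ∀ j ∈ Finset.range (2 * B + 1), i ≠ j →
        Disjoint (W i) (W j) := by
      have key : ∀ i j, i < j → Disjoint (W i) (W j) := by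
        intro i j hij
        rw [Finset.disjoint_left]
        intro T hi hj
        obtain ⟨hTQ, hlt⟩ := Finset.mem_filter.1 (Finset.mem_sdiff.1 hj).1
        exact (Finset.mem_sdiff.1 hi).2 (Finset.mem_filter.2
          ⟨hTQ, lt_of_le_of_lt (Nat.mul_le_mul_right _ (level_mono hBpos hDpos hij)) hlt⟩)
      intro i _ j _ hij
      rcases lt_or_gt_of_ne hij with h' | h'
      · exact key i j h'
      · exact (key j i h').symm
    have h1 := Finset.card_nsmul_le_sum _ _ _ hW
    rw [Finset.card_range, smul_eq_mul, ← Finset.mul_sum, ← Finset.sum_biUnion hWdisj] at h1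
    have h2 := le_trans h1 (Nat.mul_le_mul_left _ (hSsum _ (by
      intro T hT
      obtain ⟨k, -, hk⟩ := Finset.mem_biUnion.1 hT
      exact (Finset.mem_filter.1 (Finset.mem_sdiff.1 hk).1).1)))
    have := Nat.le_of_mul_le_mul_right h2 hG0
    omega

end Cfsg.Agent.Solv.BrauerFeit
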