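import Cfsg.Agent.Lib.Solv.BrauerFeit.Count

/-!
# The Brauer–Feit theorem

A finite linear group in characteristic `p` has an abelian normal `p'`-subgroup of index bounded
in terms of the degree and of the order of a Sylow `p`-subgroup.
-/

set_option autoImplicit false
set_option linter.style.haveILetI false

namespace Cfsg.Agent.Solv.BrauerFeit

universe u v

section Algebras

variable {F : Type v} [Field F] [IsAlgClosed F]

/-- Characters of a commutative finite-dimensional algebra detect nilpotency. -/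
theorem isNilpotent_of_forall_algHom {R : Type*} [CommRing R] [Algebra F R] [FiniteDimensional F R]
    {r : R} (h : ∀ φ : R →ₐ[F] F, φ r = 0) : IsNilpotent r := by
  rw [← mem_nilradical, nilradical_eq_sInf, Submodule.mem_sInf]
  intro P hP
  haveI : Ideal.IsPrime P := hP
  have hbij : Function.Bijective (algebraMap F (R ⧸ P)) :=
    IsAlgClosed.algebraMap_bijective_of_isIntegral
  let ψ : R →ₐ[F] F := (AlgEquiv.ofBijective (Algebra.ofId F (R ⧸ P)) hbij).symm.toAlgHom.comp
    (Ideal.Quotient.mkₐ F P)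
  have := h ψ
  rw [show ψ r = (AlgEquiv.ofBijective (Algebra.ofId F (R ⧸ P)) hbij).symm (Ideal.Quotient.mk P r) from rfl,
    EmbeddingLike.map_eq_zero_iff] at this
  exact Ideal.Quotient.eq_zero_iff_mem.1 this

/-- There are at most `finrank` characters. -/
theorem finite_algHom {R : Type*} [CommRing R] [Algebra F R] [FiniteDimensional F R] :
    Finite (R →ₐ[F] F) ∧ Nat.card (R →ₐ[F] F) ≤ Module.finrank F R := by
  have hli := linearIndependent_algHom_toLinearMap F R F
  haveI := hli.finite
  haveI := Fintype.ofFinite (R →ₐ[F] F)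
  refine ⟨inferInstance, ?_⟩
  rw [Nat.card_eq_fintype_card]
  refine hli.fintype_card_le_finrank.trans (le_of_eq ?_)
  rw [Module.finrank_linearMap, Module.finrank_self, mul_one]

end Algebras

section Rep

variable {G : Type u} [Group G] [Finite G] {F : Type v} [Field F] {p : ℕ} [Fact p.Prime] [CharP F p]
  {V : Type v} [AddCommGroup V] [Module F V]

theorem pow_eq_one_of_nilpotent {ρ : G →* Module.End F V} (hρ : Function.Injective ρ) {w : G}
    (hw : ¬ p ∣ orderOf w) (hn : IsNilpotent (ρ w - 1)) : w = 1 := by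
  obtain ⟨k, hk⟩ := hn
  obtain ⟨j, hj⟩ : ∃ j, k ≤ p ^ j := ⟨k, (Nat.lt_pow_self (Fact.out : p.Prime).one_lt).le⟩
  have h0 : (ρ w - 1) ^ p ^ j = 0 := pow_eq_zero_of_le hj hk
  obtain ⟨r, hr⟩ := ((Commute.one_right (ρ w - 1))).exists_add_pow_prime_pow_eq (Fact.out : p.Prime) j
  have hp0 : (p : Module.End F V) = 0 := by
    rw [← map_natCast (algebraMap F (Module.End F V)), CharP.cast_eq_zero, map_zero]
  rw [sub_add_cancel, h0, hp0, ← map_pow, one_pow] at hr
  simp only [zero_mul, add_zero, zero_add] at hr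
  have h1 : orderOf w ∣ p ^ j := orderOf_dvd_of_pow_eq_one (hρ (by rw [hr, map_one]))
  rw [← orderOf_eq_one_iff]
  exact Nat.eq_one_of_dvd_coprimes
    (((Fact.out : p.Prime).coprime_iff_not_dvd.2 hw).symm.pow_right j) dvd_rfl h1

omit [Finite G] [CharP F p] [Fact p.Prime] in
theorem mem_center_of_scalar {ρ : G →* Module.End F V} (hρ : Function.Injective ρ) {g : G} {c : F}
    (hg : ρ g = algebraMap F (Module.End F V) c) : g ∈ Subgroup.center G :=
  Subgroup.mem_center_iff.2 fun h => hρ (by rw [map_mul, map_mul, hg, Algebra.commutes])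

variable [IsAlgClosed F] [FiniteDimensional F V]

omit [IsAlgClosed F] in
/-- The centre, when it acts by scalars, has order prime to `p`. -/
theorem center_not_dvd {ρ : G →* Module.End F V} (hρ : Function.Injective ρ)
    (hsc : ∀ z ∈ Subgroup.center G, ∃ c : F, ρ z = algebraMap F (Module.End F V) c) :
    ¬ p ∣ Nat.card (Subgroup.center G) := by
  refine not_dvd_card_of_orderOf fun z hz hd => ?_
  obtain ⟨c, hc⟩ := hsc _ (pow_mem hz (orderOf z / p))
  set y := z ^ (orderOf z / p) with hy
  have hyo : orderOf y = p := orderOf_pow_orderOf_div (orderOf_pos z).ne' hd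
  have hy1 : y = 1 := by
    apply hρ
    rw [map_one]
    rcases subsingleton_or_nontrivial V with hV | hV
    · exact Subsingleton.elim _ _
    have h1 : ρ y ^ p = 1 := by
      rw [← map_pow, ← hyo, pow_orderOf_eq_one, map_one]
    rw [hc, ← map_pow, ← map_one (algebraMap F (Module.End F V))] at h1
    have h2 : c ^ p = 1 := (algebraMap F (Module.End F V)).injective h1
    rw [← one_pow p] at h2
    rw [hc, frobenius_inj F p h2, map_one]
  rw [hy1, orderOf_one] at hyo
  exact (Fact.out : p.Prime).one_lt.ne hyo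

omit [CharP F p] [Fact p.Prime] [IsAlgClosed F] in
/-- Projective centralisers. -/
theorem proj_bound {ρ : G →* Module.End F V} (hρ : Function.Injective ρ)
    (hsc : ∀ z ∈ Subgroup.center G, ∃ c : F, ρ z = algebraMap F (Module.End F V) c) (x : G)
    (hx : x ∉ Subgroup.center G) :
    Nat.card {g : G // g * x * g⁻¹ * x⁻¹ ∈ Subgroup.center G} ≤
      Module.finrank F V * Nat.card (Subgroup.centralizer ({x} : Set G)) := by
  classical
  haveI := Fintype.ofFinite G
  have hd : 0 < Module.finrank F V := by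
    rw [Module.finrank_pos_iff]
    by_contra h
    rw [not_nontrivial_iff_subsingleton] at h
    exact hx (mem_center_of_scalar hρ (c := 1) (Subsingleton.elim _ _))
  let s : Finset G := Finset.univ.filter fun g => g * x * g⁻¹ * x⁻¹ ∈ Subgroup.center G
  have hs : Nat.card {g : G // g * x * g⁻¹ * x⁻¹ ∈ Subgroup.center G} = s.card := by
    rw [Nat.card_eq_fintype_card, Fintype.card_subtype]
  let φ : G → G := fun g => g * x * g⁻¹ * x⁻¹
  have hfib : ∀ a ∈ s.image φ, (s.filter fun g => φ g = a).card ≤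
      Nat.card (Subgroup.centralizer ({x} : Set G)) := by
    intro a ha
    obtain ⟨g₀, -, rfl⟩ := Finset.mem_image.1 ha
    rw [Nat.card_eq_fintype_card, ← Finset.card_univ]
    refine Finset.card_le_card_of_injOn (fun g => (⟨if g₀⁻¹ * g ∈ Subgroup.centralizer ({x} : Set G)
      then g₀⁻¹ * g else 1, by split_ifs with h; exacts [h, one_mem _]⟩ : Subgroup.centralizer ({x} : Set G)))
      (fun g _ => Finset.mem_univ _) ?_
    intro g hg g' hg' he
    have key : ∀ g ∈ s.filter fun g => φ g = φ g₀, g₀⁻¹ * g ∈ Subgroup.centralizer ({x} : Set G) := by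
      intro g hg
      rw [Subgroup.mem_centralizer_singleton_iff]
      have h1 : g * x * g⁻¹ = g₀ * x * g₀⁻¹ := mul_right_cancel (Finset.mem_filter.1 hg).2
      calc g₀⁻¹ * g * x = g₀⁻¹ * (g * x * g⁻¹) * g := by simp [mul_assoc]
        _ = x * (g₀⁻¹ * g) := by rw [h1]; simp [mul_assoc]
    have := congrArg Subtype.val he
    simp only [if_pos (key g hg), if_pos (key g' hg')] at this
    exact mul_left_cancel this
  rw [hs]
  refine (Finset.card_le_mul_card_image s _ hfib).trans ?_
  rw [mul_comm]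
  refine Nat.mul_le_mul_right _ ?_
  -- the possible commutators are scalars with bounded order
  have hvals : ∀ a ∈ s.image φ, ∃ c : F, ρ a = algebraMap F (Module.End F V) c ∧
      c ∈ (Polynomial.nthRoots (Module.finrank F V) (1 : F)).toFinset := by
    intro a ha
    obtain ⟨g, hg, rfl⟩ := Finset.mem_image.1 ha
    obtain ⟨c, hc⟩ := hsc _ (Finset.mem_filter.1 hg).2
    refine ⟨c, hc, ?_⟩
    rw [Multiset.mem_toFinset, Polynomial.mem_nthRoots hd]
    have h1 : LinearMap.det (ρ (g * x * g⁻¹ * x⁻¹)) = 1 := by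
      have e : ∀ a : G, LinearMap.det (ρ a) * LinearMap.det (ρ a⁻¹) = 1 := fun a => by
        rw [← map_mul, ← map_mul, mul_inv_cancel, map_one, map_one]
      simp only [map_mul]
      calc LinearMap.det (ρ g) * LinearMap.det (ρ x) * LinearMap.det (ρ g⁻¹) * LinearMap.det (ρ x⁻¹)
          = (LinearMap.det (ρ g) * LinearMap.det (ρ g⁻¹)) * (LinearMap.det (ρ x) * LinearMap.det (ρ x⁻¹)) := by
            ring
        _ = 1 := by rw [e, e, mul_one]
    rw [hc, Algebra.algebraMap_eq_smul_one, LinearMap.det_smul, map_one, mul_one] at h1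
    exact h1
  choose! val hval hmem using hvals
  refine (Finset.card_le_card_of_injOn val (fun a ha => hmem a ha) fun a ha b hb he => hρ ?_).trans
    ((Multiset.toFinset_card_le _).trans (Polynomial.card_nthRoots _ _))
  rw [hval a ha, hval b hb, he]

omit [CharP F p] [Fact p.Prime] in
theorem finrank_end_le {n : ℕ} (hn : Module.finrank F V ≤ n) :
    Module.finrank F (Module.End F V) ≤ n * n := by
  rw [Module.finrank_linearMap]
  exact Nat.mul_le_mul hn hn

/-- Abelian `p'`-subgroups without stable elements are small. -/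
theorem stab_bound {ρ : G →* Module.End F V} (hρ : Function.Injective ρ)
    (hsc : ∀ z ∈ Subgroup.center G, ∃ c : F, ρ z = algebraMap F (Module.End F V) c)
    {n : ℕ} (hn : Module.finrank F V ≤ n) {e : ℕ} (he : 0 < e) (A : Subgroup G)
    (hA : ∀ a ∈ A, ∀ b ∈ A, Commute a b) (hAp : ¬ p ∣ Nat.card A) (hns : ∀ a ∈ A, ¬ IsStable p e a) :
    Nat.card A ≤ (e ^ (n * n + 1)) ^ ((n * n) * (n * n)) * Nat.card (Subgroup.center G) := by
  classical
  set N := n * n with hN
  set E := e ^ (N + 1) with hE
  haveI : NeZero E := ⟨(pow_pos he _).ne'⟩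
  have hpow : ∀ a ∈ A, a ^ E ∈ Subgroup.center G := by
    intro a ha
    let d : ℕ → ℕ := fun k =>
      Module.finrank F (Subalgebra.toSubmodule (Subalgebra.centralizer F ({ρ (a ^ e ^ k)} : Set (Module.End F V))))
    have hstep : ∀ k, a ^ e ^ k ∉ Subgroup.center G → d k < d (k + 1) := by
      intro k hk
      have hle : Subalgebra.centralizer F ({ρ (a ^ e ^ k)} : Set (Module.End F V)) ≤
          Subalgebra.centralizer F ({ρ (a ^ e ^ (k + 1))} : Set (Module.End F V)) := by
        intro f hf
        rw [Subalgebra.mem_centralizer_iff] at hf ⊢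
        intro g hg
        rw [Set.mem_singleton_iff.1 hg, pow_succ e k, pow_mul, map_pow]
        exact (Commute.pow_left (hf _ rfl) e)
      refine lt_of_le_of_ne (Submodule.finrank_mono (Subalgebra.toSubmodule.monotone hle)) fun heq => ?_
      have heq' := Subalgebra.toSubmodule_injective
        (Submodule.eq_of_le_of_finrank_eq (Subalgebra.toSubmodule.monotone hle) heq)
      refine hns _ (pow_mem ha _) ⟨hk, orderOf_not_dvd hAp (pow_mem ha _), fun y hy => ?_⟩
      have hy' : ρ y ∈ Subalgebra.centralizer F ({ρ (a ^ e ^ (k + 1))} : Set (Module.End F V)) := by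
        rw [Subalgebra.mem_centralizer_iff]
        intro g hg
        rw [Set.mem_singleton_iff.1 hg, pow_succ e k, pow_mul]
        exact hy.map ρ
      rw [← heq', Subalgebra.mem_centralizer_iff] at hy'
      exact hρ (by rw [map_mul, map_mul]; exact hy' _ rfl)
    by_contra hout
    have hall : ∀ k, k ≤ N + 1 → a ^ e ^ k ∉ Subgroup.center G := by
      intro k hk h
      refine hout ?_
      rw [hE, ← Nat.sub_add_cancel hk, pow_add e, mul_comm, pow_mul]
      exact pow_mem h _
    have hgrow : ∀ k, k ≤ N + 1 → k ≤ d k := by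
      intro k
      induction k with
      | zero => intro; exact Nat.zero_le _
      | succ k ih =>
        intro hk
        have := hstep k (hall k (by omega))
        have := ih (by omega)
        omega
    have h1 := hgrow (N + 1) le_rfl
    have h2 : d (N + 1) ≤ Module.finrank F (Module.End F V) := Submodule.finrank_le _
    have h3 := finrank_end_le (F := F) (V := V) hn
    omega
  let R := Algebra.adjoin F (ρ '' (A : Set G))
  letI : CommRing R := Algebra.adjoinCommRingOfComm F (by
    rintro _ ⟨a, ha, rfl⟩ _ ⟨b, hb, rfl⟩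
    exact (hA a ha b hb).map ρ)
  let el : A → R := fun a => ⟨ρ a, Algebra.subset_adjoin ⟨a, a.2, rfl⟩⟩
  have hel : ∀ a b : A, el (a * b) = el a * el b := fun a b => Subtype.ext (map_mul ρ (a : G) b)
  have hel1 : el 1 = 1 := Subtype.ext (map_one ρ)
  obtain ⟨hfin, hcard⟩ := finite_algHom (F := F) (R := R)
  haveI := hfin
  let u : (R →ₐ[F] F) → A →* Fˣ := fun φ =>
    ({ toFun := fun a => φ (el a), map_one' := by rw [hel1, map_one],
       map_mul' := fun a b => by rw [hel, map_mul] } : A →* F).toHomUnits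
  have hu : ∀ (φ : R →ₐ[F] F) (a : A), ((u φ a : Fˣ) : F) = φ (el a) := fun φ a => rfl
  have hroot : ∀ (q : (R →ₐ[F] F) × (R →ₐ[F] F)) (a : A), u q.1 a / u q.2 a ∈ rootsOfUnity E F := by
    intro q a
    rw [mem_rootsOfUnity, div_pow, div_eq_one, ← map_pow, ← map_pow]
    obtain ⟨c, hc⟩ := hsc _ (hpow a a.2)
    have hela : el (a ^ E) = algebraMap F R c := Subtype.ext (by simpa [el] using hc)
    refine Units.ext ?_
    rw [hu, hu, hela, AlgHom.commutes, AlgHom.commutes]
  let θ : A →* ((R →ₐ[F] F) × (R →ₐ[F] F) → rootsOfUnity E F) :=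
    Pi.monoidHom fun q => ((u q.1) / (u q.2)).codRestrict (rootsOfUnity E F) (hroot q)
  have hker : θ.ker.map A.subtype ≤ Subgroup.center G := by
    rintro _ ⟨a, ha, rfl⟩
    have hsame : ∀ φ ψ : R →ₐ[F] F, φ (el a) = ψ (el a) := by
      intro φ ψ
      have h1 := congrArg Subtype.val (congrFun (MonoidHom.mem_ker.1 ha) (φ, ψ))
      change u φ a / u ψ a = 1 at h1
      rw [← hu, ← hu, div_eq_one.1 h1]
    obtain ⟨c, hc⟩ : ∃ c : F, ∀ φ : R →ₐ[F] F, φ (el a) = c := by
      rcases isEmpty_or_nonempty (R →ₐ[F] F) with h | ⟨⟨φ₀⟩⟩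
      · exact ⟨0, fun φ => (IsEmpty.false φ).elim⟩
      · exact ⟨φ₀ (el a), fun φ => hsame φ φ₀⟩
    have hnil : IsNilpotent (el a - algebraMap F R c) := isNilpotent_of_forall_algHom (F := F) fun φ => by
      rw [map_sub, hc, AlgHom.commutes]
      simp
    obtain ⟨k, hk⟩ := hnil.map R.val
    obtain ⟨j, hj⟩ : ∃ j, k ≤ p ^ j := ⟨k, (Nat.lt_pow_self (Fact.out : p.Prime).one_lt).le⟩
    have h0 := pow_eq_zero_of_le hj hk
    have hval : R.val (el a - algebraMap F R c) = ρ (a : G) - algebraMap F (Module.End F V) c := rfl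
    rw [hval] at h0
    obtain ⟨r, hr⟩ := (show Commute (ρ (a : G) - algebraMap F (Module.End F V) c)
      (algebraMap F (Module.End F V) c) from (Algebra.commutes _ _).symm).exists_add_pow_prime_pow_eq
      (Fact.out : p.Prime) j
    have hp0 : (p : Module.End F V) = 0 := by
      rw [← map_natCast (algebraMap F (Module.End F V)), CharP.cast_eq_zero, map_zero]
    rw [sub_add_cancel, h0, hp0, ← map_pow, ← map_pow] at hr
    simp only [zero_mul, add_zero, zero_add] at hr
    have hcen := mem_center_of_scalar hρ hr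
    obtain ⟨i, hi⟩ := exists_pow_eq_self_of_coprime (x := (a : G))
      (((Fact.out : p.Prime).coprime_iff_not_dvd.2 (orderOf_not_dvd hAp a.2)).pow_left j)
    show (a : G) ∈ Subgroup.center G
    rw [← hi]
    exact pow_mem hcen i
  have hk : Nat.card θ.ker ≤ Nat.card (Subgroup.center G) := by
    rw [← Subgroup.card_map_of_injective A.subtype_injective]
    exact Subgroup.card_le_of_le hker
  rw [← Subgroup.card_mul_index θ.ker, mul_comm]
  refine Nat.mul_le_mul ?_ hk
  rw [Subgroup.index_ker]
  haveI : Finite (rootsOfUnity E F) := inferInstance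
  refine (Nat.card_le_card_of_injective _ Subtype.val_injective).trans ?_
  rw [Nat.card_fun, Nat.card_prod]
  refine le_trans (Nat.pow_le_pow_left ?_ _) (Nat.pow_le_pow_right (pow_pos he _) ?_)
  · exact card_rootsOfUnity F E
  · have h2 : Nat.card (R →ₐ[F] F) ≤ N :=
      hcard.trans (le_of_eq_of_le (Subalgebra.finrank_toSubmodule R).symm ((Submodule.finrank_le (Subalgebra.toSubmodule R)).trans (finrank_end_le hn)))
    exact Nat.mul_le_mul h2 h2

/-- The automiser of an abelian `p'`-subgroup is bounded. -/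
theorem aut_bound {ρ : G →* Module.End F V} (hρ : Function.Injective ρ)
    {n : ℕ} (hn : Module.finrank F V ≤ n) (T : Subgroup G)
    (hT : ∀ a ∈ T, ∀ b ∈ T, Commute a b) (hTp : ¬ p ∣ Nat.card T) :
    (Subgroup.centralizer (T : Set G)).relIndex (Subgroup.normalizer (T : Set G)) ≤ (n * n).factorial := by
  classical
  set N := Subgroup.normalizer (T : Set G) with hN
  let R := Algebra.adjoin F (ρ '' (T : Set G))
  letI : CommRing R := Algebra.adjoinCommRingOfComm F (by
    rintro _ ⟨a, ha, rfl⟩ _ ⟨b, hb, rfl⟩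
    exact (hT a ha b hb).map ρ)
  let el : T → R := fun a => ⟨ρ a, Algebra.subset_adjoin ⟨a, a.2, rfl⟩⟩
  obtain ⟨hfin, hcard⟩ := finite_algHom (F := F) (R := R)
  haveI := hfin
  -- conjugation as an algebra endomorphism
  let cEnd : G → (Module.End F V →ₐ[F] Module.End F V) := fun g =>
    AlgHom.ofLinearMap
      ((LinearMap.mulLeft F (ρ g)).comp (LinearMap.mulRight F (ρ g⁻¹)))
      (by simp [← map_mul]) (fun x y => by
        show ρ g * (x * y * ρ g⁻¹) = ρ g * (x * ρ g⁻¹) * (ρ g * (y * ρ g⁻¹))
        simp only [mul_assoc]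
        rw [← mul_assoc (ρ g⁻¹) (ρ g), ← map_mul, inv_mul_cancel, map_one, one_mul])
  have cEnd_apply : ∀ g x, cEnd g x = ρ g * (x * ρ g⁻¹) := fun g x => rfl
  have cEnd_rho : ∀ g t, cEnd g (ρ t) = ρ (g * t * g⁻¹) := fun g t => by
    rw [cEnd_apply, ← map_mul, ← map_mul, mul_assoc]
  have hmem : ∀ (g : N) (x : R), cEnd g x.1 ∈ R := by
    intro g x
    have : R.map (cEnd g) ≤ R := by
      rw [AlgHom.map_adjoin]
      refine Algebra.adjoin_le ?_
      rintro _ ⟨_, ⟨t, ht, rfl⟩, rfl⟩
      exact Algebra.subset_adjoin ⟨_, (Subgroup.mem_normalizer_iff.1 g.2 t).1 ht, (cEnd_rho _ _).symm⟩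
    exact this ⟨x.1, x.2, rfl⟩
  let cR : N → (R →ₐ[F] R) := fun g => ((cEnd g).comp R.val).codRestrict R (hmem g)
  have cR_apply : ∀ (g : N) (x : R), (cR g x : Module.End F V) = ρ g * (x.1 * ρ (g : G)⁻¹) := fun g x => rfl
  have cR_one : cR 1 = AlgHom.id F R := AlgHom.ext fun x => Subtype.ext (by
    rw [cR_apply]; simp)
  have cR_mul : ∀ g h : N, cR (g * h) = (cR g).comp (cR h) := fun g h => AlgHom.ext fun x => Subtype.ext (by
    rw [AlgHom.comp_apply, cR_apply, cR_apply, cR_apply]
    simp [mul_assoc])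
  letI act : MulAction N (R →ₐ[F] F) :=
    { smul := fun g φ => φ.comp (cR g⁻¹)
      one_smul := fun φ => by
        show φ.comp (cR (1 : N)⁻¹) = φ
        rw [inv_one, cR_one, AlgHom.comp_id]
      mul_smul := fun g h φ => by
        show φ.comp (cR (g * h)⁻¹) = (φ.comp (cR h⁻¹)).comp (cR g⁻¹)
        rw [mul_inv_rev, cR_mul, AlgHom.comp_assoc] }
  let π : N →* Equiv.Perm (R →ₐ[F] F) := MulAction.toPermHom N (R →ₐ[F] F)
  have hker : π.ker ≤ (Subgroup.centralizer (T : Set G)).subgroupOf N := by
    intro g hg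
    rw [Subgroup.mem_subgroupOf, Subgroup.mem_centralizer_iff]
    intro t ht
    have hg' : π g⁻¹ = 1 := by rw [map_inv, MonoidHom.mem_ker.1 hg, inv_one]
    have ht' : (g : G) * t * (g : G)⁻¹ ∈ T := (Subgroup.mem_normalizer_iff.1 g.2 t).1 ht
    set w : T := ⟨(g : G) * t * (g : G)⁻¹, ht'⟩ * (⟨t, ht⟩)⁻¹ with hw
    have hφ : ∀ φ : R →ₐ[F] F, φ (el w - 1) = 0 := by
      intro φ
      have hfix : g⁻¹ • φ = φ := Equiv.ext_iff.1 hg' φ
      have h1 := DFunLike.congr_fun hfix (el ⟨t, ht⟩)
      have h2 : (g⁻¹ • φ) (el ⟨t, ht⟩) = φ (el ⟨(g : G) * t * (g : G)⁻¹, ht'⟩) := by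
        show φ (cR (g⁻¹)⁻¹ (el ⟨t, ht⟩)) = _
        congr 1
        apply Subtype.ext
        rw [inv_inv]
        exact cEnd_rho (g : G) t
      have hmul : el w * el ⟨t, ht⟩ = el ⟨(g : G) * t * (g : G)⁻¹, ht'⟩ := Subtype.ext (by
        show ρ (w : G) * ρ t = _
        rw [← map_mul]
        simp [hw, el])
      rw [h2, ← hmul, map_mul] at h1
      have hne : φ (el ⟨t, ht⟩) ≠ 0 := by
        intro h0
        have : el ⟨t, ht⟩ * el (⟨t, ht⟩⁻¹ : T) = 1 := Subtype.ext (by
          show ρ t * ρ t⁻¹ = 1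
          rw [← map_mul, mul_inv_cancel, map_one])
        have := congrArg φ this
        rw [map_mul, h0, zero_mul, map_one] at this
        exact zero_ne_one this
      rw [map_sub, map_one, sub_eq_zero]
      exact mul_eq_right₀ hne |>.1 h1
    have hnil : IsNilpotent (ρ (w : G) - 1) := by
      simpa [el] using (isNilpotent_of_forall_algHom hφ).map R.val
    have hw1 := pow_eq_one_of_nilpotent hρ (orderOf_not_dvd hTp w.2) hnil
    have : (g : G) * t * (g : G)⁻¹ * t⁻¹ = 1 := by simpa [hw] using hw1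
    rw [mul_inv_eq_one, mul_inv_eq_iff_eq_mul] at this
    exact this.symm
  refine (Nat.le_of_dvd (Nat.pos_of_ne_zero Subgroup.index_ne_zero_of_finite)
    (Subgroup.index_dvd_of_le hker)).trans ?_
  rw [Subgroup.index_ker]
  refine (Nat.card_le_card_of_injective _ Subtype.val_injective).trans ?_
  rw [Nat.card_perm]
  exact Nat.factorial_le (hcard.trans (le_of_eq_of_le (Subalgebra.finrank_toSubmodule R).symm ((Submodule.finrank_le (Subalgebra.toSubmodule R)).trans (finrank_end_le hn))))

end Rep

/-- Bounded index of abelian normal `p'`-subgroups. -/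
def Bd (p n m B : ℕ) : Prop :=
  ∀ (G : Type u) [Group G] [Finite G] (F : Type v) [Field F] [CharP F p] [IsAlgClosed F]
    (V : Type v) [AddCommGroup V] [Module F V] [FiniteDimensional F V], Module.finrank F V ≤ n →
    ∀ ρ : G →* Module.End F V, Function.Injective ρ → (Nat.card G).factorization p ≤ m →
    ∃ A : Subgroup G, A.Normal ∧ (∀ a ∈ A, ∀ b ∈ A, Commute a b) ∧ ¬ p ∣ Nat.card A ∧ A.index ≤ B

/-- The bound applied to the image of a representation. -/
theorem Bd.image {p n m B : ℕ} (hB : Bd.{u, v} p n m B) {C : Type u} [Group C] [Finite C] {F : Type v}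
    [Field F] [CharP F p] [IsAlgClosed F] {W : Type v} [AddCommGroup W] [Module F W] [FiniteDimensional F W]
    (hW : Module.finrank F W ≤ n) (σ : C →* Module.End F W) (hm : (Nat.card C).factorization p ≤ m) :
    ∃ A : Subgroup (C ⧸ σ.ker), A.Normal ∧ (∀ a ∈ A, ∀ b ∈ A, Commute a b) ∧ ¬ p ∣ Nat.card A ∧
      A.index ≤ B :=
  hB (C ⧸ σ.ker) F W hW (QuotientGroup.lift σ.ker σ le_rfl)
    (fun a b => by
      induction a using QuotientGroup.induction_on with | H a =>
      induction b using QuotientGroup.induction_on with | H b =>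
      intro h
      rw [QuotientGroup.lift_mk, QuotientGroup.lift_mk] at h
      rw [QuotientGroup.eq, MonoidHom.mem_ker, map_mul, ← h, ← map_mul, inv_mul_cancel, map_one])
    (le_trans ((Nat.factorization_le_iff_dvd Nat.card_pos.ne' Nat.card_pos.ne').2
      (Subgroup.card_quotient_dvd_card σ.ker) p) hm)

theorem reduce_step {p n m B' : ℕ} [Fact p.Prime] (hB' : Bd.{u, v} p n m B')
    {G : Type u} [Group G] [Finite G] {F : Type v} [Field F] [CharP F p] [IsAlgClosed F]
    {V : Type v} [AddCommGroup V] [Module F V] [FiniteDimensional F V] (hV : Module.finrank F V ≤ n + 1)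
    (ρ : G →* Module.End F V) (hρ : Function.Injective ρ) (hm : (Nat.card G).factorization p ≤ m)
    (x : G) (hx : ∀ c : F, ρ x ≠ algebraMap F (Module.End F V) c) :
    ∃ A : Subgroup G, A ≤ Subgroup.centralizer {x} ∧ (∀ a ∈ A, ∀ b ∈ A, Commute a b) ∧
      ¬ p ∣ Nat.card A ∧ A.relIndex (Subgroup.centralizer {x}) ≤ B' * B' * p ^ m := by
  haveI : Nontrivial V := by
    by_contra h
    rw [not_nontrivial_iff_subsingleton] at h
    exact hx 1 (Subsingleton.elim _ _)
  obtain ⟨c, hc⟩ := Module.End.exists_eigenvalue (ρ x)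
  set W := (ρ x).eigenspace c with hW
  have hW0 : W ≠ ⊥ := hc
  have hWtop : W ≠ ⊤ := fun h => hx c (LinearMap.ext fun v => by
    have : v ∈ W := h ▸ Submodule.mem_top
    rw [Module.End.mem_eigenspace_iff] at this
    rw [this]
    rfl)
  set C := Subgroup.centralizer ({x} : Set G) with hC
  have hinv : ∀ (g : C), ∀ w ∈ W, ρ g w ∈ W := by
    intro g w hw
    rw [hW, Module.End.mem_eigenspace_iff] at hw ⊢
    have := DFunLike.congr_fun (congrArg ρ (Subgroup.mem_centralizer_singleton_iff.1 g.2)) w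
    rw [map_mul, map_mul] at this
    exact this.symm.trans (by rw [Module.End.mul_apply, hw, map_smul])
  let ρ₁ : C →* Module.End F W :=
    { toFun := fun g => (ρ g).restrict (hinv g)
      map_one' := by ext w; simp
      map_mul' := fun g h => by ext w; simp }
  let ρ₂ : C →* Module.End F (V ⧸ W) :=
    { toFun := fun g => W.mapQ W (ρ g) (hinv g)
      map_one' := by ext w; simp
      map_mul' := fun g h => by ext w; simp }
  have hd1 : Module.finrank F W ≤ n := by
    have := Submodule.finrank_lt hWtop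
    omega
  have hd2 : Module.finrank F (V ⧸ W) ≤ n := by
    have := Submodule.finrank_quotient_add_finrank W
    have h0 : 0 < Module.finrank F W :=
      Module.finrank_pos_iff.2 (Submodule.nontrivial_iff_ne_bot.2 hW0)
    omega
  have hfac : (Nat.card C).factorization p ≤ m :=
    le_trans ((Nat.factorization_le_iff_dvd Nat.card_pos.ne' Nat.card_pos.ne').2
      (Subgroup.card_subgroup_dvd_card C) p) hm
  obtain ⟨A₁, hA₁n, hA₁c, hA₁p, hA₁i⟩ := Bd.image hB' hd1 ρ₁ hfac
  obtain ⟨A₂, hA₂n, hA₂c, hA₂p, hA₂i⟩ := Bd.image hB' hd2 ρ₂ hfac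
  set L : Subgroup C := A₁.comap (QuotientGroup.mk' ρ₁.ker) ⊓ A₂.comap (QuotientGroup.mk' ρ₂.ker)
  let ψ : L →* A₁ × A₂ :=
    MonoidHom.prod (((QuotientGroup.mk' ρ₁.ker).comp L.subtype).codRestrict A₁ fun l => l.2.1)
      (((QuotientGroup.mk' ρ₂.ker).comp L.subtype).codRestrict A₂ fun l => l.2.2)
  -- the kernel is a p-group
  have hker : IsPGroup p ψ.ker := by
    intro l
    refine ⟨1, Subtype.ext (Subtype.ext (Subtype.ext (hρ ?_)))⟩
    rw [pow_one]
    have h1 : (QuotientGroup.mk' ρ₁.ker) ((l : L) : C) = 1 := congrArg Subtype.val (congrArg Prod.fst l.2)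
    have h2 : (QuotientGroup.mk' ρ₂.ker) ((l : L) : C) = 1 := congrArg Subtype.val (congrArg Prod.snd l.2)
    rw [QuotientGroup.mk'_apply, QuotientGroup.eq_one_iff, MonoidHom.mem_ker] at h1 h2
    set g : C := ((l : L) : C)
    have hsq : (ρ g - 1) ^ 2 = 0 := by
      refine LinearMap.ext fun v => ?_
      have hmem : ρ g v - v ∈ W := by
        have := DFunLike.congr_fun h2 (Submodule.Quotient.mk v)
        exact (Submodule.Quotient.eq W).1 this
      have := congrArg Subtype.val (DFunLike.congr_fun h1 ⟨_, hmem⟩)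
      rw [sq, Module.End.mul_apply, LinearMap.sub_apply, Module.End.one_apply, LinearMap.sub_apply,
        Module.End.one_apply]
      simpa [ρ₁, sub_eq_zero] using this
    have h0 : (ρ g - 1) ^ p = 0 := pow_eq_zero_of_le (Fact.out : p.Prime).two_le hsq
    obtain ⟨r, hr⟩ := (Commute.one_right (ρ (g : G) - 1)).exists_add_pow_prime_eq (Fact.out : p.Prime)
    have hp0 : (p : Module.End F V) = 0 := by
      rw [← map_natCast (algebraMap F (Module.End F V)), CharP.cast_eq_zero, map_zero]
    rw [sub_add_cancel, h0, hp0, ← map_pow, one_pow] at hr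
    simp only [zero_mul, add_zero, zero_add] at hr
    simpa [g] using hr
  have hcop : (Nat.card ψ.ker).Coprime ψ.ker.index := by
    obtain ⟨k, hk⟩ := hker.exists_card_eq
    rw [hk]
    refine Nat.Coprime.pow_left k ((Fact.out : p.Prime).coprime_iff_not_dvd.2 ?_)
    rw [Subgroup.index_ker]
    intro h
    have := h.trans (Subgroup.card_subgroup_dvd_card ψ.range)
    rw [Nat.card_prod] at this
    rcases (Fact.out : p.Prime).dvd_mul.1 this with h | h
    exacts [hA₁p h, hA₂p h]
  obtain ⟨H, hH⟩ := Subgroup.exists_right_complement'_of_coprime hcop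
  refine ⟨H.map (C.subtype.comp L.subtype), ?_, ?_, ?_, ?_⟩
  · rintro _ ⟨h, -, rfl⟩
    exact (h : C).2
  · rintro _ ⟨a, ha, rfl⟩ _ ⟨b, hb, rfl⟩
    refine Commute.map ?_ (C.subtype.comp L.subtype)
    have hψ : ψ (a * b) = ψ (b * a) := by
      rw [map_mul, map_mul]
      exact Prod.ext (Subtype.ext (hA₁c _ (ψ a).1.2 _ (ψ b).1.2))
        (Subtype.ext (hA₂c _ (ψ a).2.2 _ (ψ b).2.2))
    have h1 : (a * b) * (b * a)⁻¹ ∈ ψ.ker := by rw [MonoidHom.mem_ker, map_mul, map_inv, hψ, mul_inv_cancel]
    have h2 : (a * b) * (b * a)⁻¹ ∈ H := mul_mem (mul_mem ha hb) (inv_mem (mul_mem hb ha))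
    have h3 := Subgroup.disjoint_def.1 hH.disjoint h1 h2
    exact mul_inv_eq_one.1 h3
  · rw [Subgroup.card_map_of_injective
      (show Function.Injective (C.subtype.comp L.subtype) from
        C.subtype_injective.comp L.subtype_injective)]
    rw [← hH.symm.index_eq_card]
    intro h
    have hd : ψ.ker.index = Nat.card H := hH.symm.index_eq_card
    obtain ⟨k, hk⟩ := hker.exists_card_eq
    rw [Subgroup.index_ker] at hd
    rw [hH.symm.index_eq_card, ← hd] at h
    have := h.trans (Subgroup.card_subgroup_dvd_card ψ.range)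
    rw [Nat.card_prod] at this
    rcases (Fact.out : p.Prime).dvd_mul.1 this with h' | h'
    exacts [hA₁p h', hA₂p h']
  · have e1 : (H.map (C.subtype.comp L.subtype)).relIndex C = L.index * H.index := by
      rw [← Subgroup.map_map, Subgroup.relIndex, Subgroup.subgroupOf,
        Subgroup.comap_map_eq_self_of_injective C.subtype_injective, Subgroup.index_map_subtype, mul_comm]
    rw [e1]
    refine Nat.mul_le_mul ?_ ?_
    · refine (Subgroup.index_inf_le).trans (Nat.mul_le_mul ?_ ?_)
      · rw [Subgroup.index_comap_of_surjective _ (QuotientGroup.mk'_surjective _)]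
        exact hA₁i
      · rw [Subgroup.index_comap_of_surjective _ (QuotientGroup.mk'_surjective _)]
        exact hA₂i
    · rw [hH.index_eq_card]
      obtain ⟨k, hk⟩ := hker.exists_card_eq
      rw [hk]
      refine Nat.pow_le_pow_right (Fact.out : p.Prime).pos (le_trans ?_ hm)
      refine ((Fact.out : p.Prime).pow_dvd_iff_le_factorization Nat.card_pos.ne').1 ?_
      rw [← hk]
      exact (Subgroup.card_subgroup_dvd_card ψ.ker).trans ((Subgroup.card_subgroup_dvd_card L).trans
        (Subgroup.card_subgroup_dvd_card C))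

theorem exists_bound (p : ℕ) [Fact p.Prime] (m : ℕ) : ∀ n : ℕ, ∃ B, Bd.{u, v} p n m B
  | 0 => by
    refine ⟨1, fun G _ _ F _ _ _ V _ _ _ hV ρ hρ _ => ⟨⊥, inferInstance, ?_, ?_, ?_⟩⟩
    · intro a ha b hb
      rw [Subgroup.mem_bot.1 ha, Subgroup.mem_bot.1 hb]
    · rw [Subgroup.card_bot]
      exact (Fact.out : p.Prime).not_dvd_one
    · haveI : Subsingleton V := Module.finrank_zero_iff.1 (Nat.le_zero.1 hV)
      haveI : Subsingleton G := ⟨fun a b => hρ (Subsingleton.elim _ _)⟩
      rw [Subgroup.index_bot, Nat.card_of_subsingleton (1 : G)]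
  | n + 1 => by
    obtain ⟨B', hB'⟩ := exists_bound p m n
    set J := B' * B' * p ^ m
    set N := (n + 1) * (n + 1)
    refine ⟨J.factorial + bound J ((J.factorial ^ (N + 1)) ^ (N * N)) N.factorial (n + 1),
      fun G _ _ F _ _ _ V _ _ _ hV ρ hρ hm => ?_⟩
    by_cases hsc : ∀ z ∈ Subgroup.center G, ∃ c : F, ρ z = algebraMap F (Module.End F V) c
    · have hyp : Hyp G p J ((J.factorial ^ (N + 1)) ^ (N * N)) N.factorial (n + 1) :=
        { center := center_not_dvd hρ hsc
          abel := fun x hx => reduce_step hB' hV ρ hρ hm x fun c hc => hx (mem_center_of_scalar hρ hc)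
          stab := fun A hA hAp hns => stab_bound hρ hsc hV (Nat.factorial_pos _) A hA hAp hns
          aut := fun T hT hTp => aut_bound hρ hV T hT hTp
          proj := fun x hx => (proj_bound hρ hsc x hx).trans (Nat.mul_le_mul_right _ hV) }
      obtain ⟨A, h1, h2, h3, h4⟩ := main hyp
      exact ⟨A, h1, h2, h3, h4.trans (Nat.le_add_left _ _)⟩
    · push Not at hsc
      obtain ⟨x, hxc, hx⟩ := hsc
      obtain ⟨A, -, hA, hAp, hAi⟩ := reduce_step hB' hV ρ hρ hm x hx
      have htop : Subgroup.centralizer ({x} : Set G) = ⊤ := by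
        rw [eq_top_iff]
        intro g _
        exact Subgroup.mem_centralizer_singleton_iff.2 (Subgroup.mem_center_iff.1 hxc g)
      rw [htop, Subgroup.relIndex_top_right] at hAi
      refine ⟨A.normalCore, inferInstance, fun a ha b hb => hA a (A.normalCore_le ha) b (A.normalCore_le hb),
        fun h => hAp (h.trans (Subgroup.card_dvd_of_le A.normalCore_le)), le_trans ?_ (Nat.le_add_right _ _)⟩
      rw [Subgroup.normalCore_eq_ker, Subgroup.index_ker]
      refine (Nat.card_le_card_of_injective _ Subtype.val_injective).trans ?_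
      rw [Nat.card_perm]
      exact Nat.factorial_le hAi

end Cfsg.Agent.Solv.BrauerFeit
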